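import Mathlib
import Cfsg.Agent.Coprime.Generation
import Cfsg.Agent.Coprime.Abelian
import Cfsg.Agent.SolvSig.Theorem
import Cfsg.Agent.S0205

/-!
# Fixed points in commutators under coprime action

For an elementary abelian `2`-group `W` of order at least four acting on a group `R` of odd order,
`[R,W] ∩ C(W)` is generated by the subgroups `[C_R(b),W] ∩ C(W)`, `b ∈ W`, `b ≠ 1`.
-/

set_option autoImplicit false
set_option linter.style.haveILetI false
set_option linter.unusedSectionVars false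
set_option linter.unusedVariables false

open scoped commutatorElement IsMulCommutative

namespace CfsgLib.WeakClosureCriterion

open Subgroup CfsgLib.Transitivity

universe u

variable {X : Type u} [Group X] {R W : Subgroup X}

/-- The subgroup generated by the `[C_R(b),W] ∩ C(W)`. -/
def hullFixed (R W : Subgroup X) : Subgroup X :=
  ⨆ b : {b : X // b ∈ W ∧ b ≠ 1},
    ⁅R ⊓ centralizer ({(b : X)} : Set X), W⁆ ⊓ centralizer (W : Set X)

theorem le_hullFixed {b : X} (hb : b ∈ W) (hb1 : b ≠ 1) :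
    ⁅R ⊓ centralizer ({b} : Set X), W⁆ ⊓ centralizer (W : Set X) ≤ hullFixed R W :=
  le_iSup (fun b : {b : X // b ∈ W ∧ b ≠ 1} =>
    ⁅R ⊓ centralizer ({(b : X)} : Set X), W⁆ ⊓ centralizer (W : Set X)) ⟨b, hb, hb1⟩

theorem hullFixed_mono {R' : Subgroup X} (h : R ≤ R') : hullFixed R W ≤ hullFixed R' W :=
  iSup_mono fun _ => inf_le_inf_right _ (commutator_mono (inf_le_inf_right _ h) le_rfl)

theorem hullFixed_le_centralizer : hullFixed R W ≤ centralizer (W : Set X) :=
  iSup_le fun _ => inf_le_right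

theorem hullFixed_le (hWR : W ≤ normalizer (R : Set X)) : hullFixed R W ≤ R :=
  iSup_le fun _ => inf_le_left.trans
    ((commutator_mono inf_le_left le_rfl).trans (Coprime.commutator_le_of_le_normalizer hWR))

theorem map_hullFixed_le {Y : Type u} [Group Y] (f : X →* Y) (hf : ∀ b ∈ W, f b = 1 → b = 1) :
    (hullFixed R W).map f ≤ hullFixed (R.map f) (W.map f) := by
  rw [hullFixed, Subgroup.map_iSup]
  refine iSup_le fun b => le_trans ?_ (le_hullFixed (mem_map_of_mem f b.2.1)
    fun h => b.2.2 (hf _ b.2.1 h))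
  refine (map_inf_le _ _ f).trans (inf_le_inf ?_ ?_)
  · rw [map_commutator]
    refine commutator_mono ((map_inf_le _ _ f).trans (inf_le_inf le_rfl ?_)) le_rfl
    rintro _ ⟨c, hc, rfl⟩
    rw [mem_centralizer_singleton_iff, ← map_mul, ← map_mul,
      mem_centralizer_singleton_iff.1 hc]
  · rintro _ ⟨c, hc, rfl⟩
    refine mem_centralizer_iff.2 ?_
    rintro _ ⟨w, hw, rfl⟩
    rw [← map_mul, ← map_mul, mem_centralizer_iff.1 hc w hw]

variable [Finite X]

theorem le_centralizer_singleton (hW : Cfsg.IsElementaryAbelian 2 W) {b : X} (hb : b ∈ W) :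
    W ≤ centralizer ({b} : Set X) := fun w hw =>
  mem_centralizer_singleton_iff.2 (congrArg Subtype.val (hW.1.is_comm.comm ⟨w, hw⟩ ⟨b, hb⟩))

theorem coprime_of_le (hW : Cfsg.IsElementaryAbelian 2 W) (hR : Odd (Nat.card R))
    {K : Subgroup X} (hK : K ≤ R) : (Nat.card W).Coprime (Nat.card K) := by
  haveI : Fact (Nat.Prime 2) := ⟨Nat.prime_two⟩
  exact coprime_card_of_elab hW fun h => hR.not_two_dvd_nat (h.trans (card_dvd_of_le hK))

theorem coprime_zpowers_of_le (hW : Cfsg.IsElementaryAbelian 2 W) (hR : Odd (Nat.card R)) {b : X}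
    (hb : b ∈ W) {K : Subgroup X} (hK : K ≤ R) :
    (Nat.card (zpowers b)).Coprime (Nat.card K) :=
  (coprime_of_le hW hR hK).coprime_dvd_left (card_dvd_of_le (zpowers_le.2 hb))

theorem isSolvable_zpowers (b : X) : Group.IsSolvable (zpowers b) :=
  Group.isSolvable_of_comm fun x y => mul_comm x y

theorem hullFixed_map_le {Y : Type u} [Group Y] (f : X →* Y) (hW : Cfsg.IsElementaryAbelian 2 W)
    (hR : Odd (Nat.card R)) (hWR : W ≤ normalizer (R : Set X)) :
    hullFixed (R.map f) (W.map f) ≤ (hullFixed R W).map f := by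
  refine iSup_le fun c => ?_
  obtain ⟨b, hb, hbc⟩ := c.2.1
  have hb1 : b ≠ 1 := fun h => c.2.2 (by rw [← hbc, h, map_one])
  rw [← hbc, centralizer_singleton_eq (f b), ← MonoidHom.map_zpowers f b]
  rw [← Coprime.map_inf_centralizer f ((zpowers_le.2 hb).trans hWR)
    (coprime_zpowers_of_le hW hR hb inf_le_left) (Or.inl (isSolvable_zpowers b)),
    ← map_commutator, ← centralizer_singleton_eq b]
  have hWQ : W ≤ normalizer ((R ⊓ centralizer ({b} : Set X) : Subgroup X) : Set X) :=
    (le_inf hWR ((le_centralizer_singleton hW hb).trans le_normalizer)).trans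
      inf_normalizer_le_normalizer_inf
  rw [← Coprime.map_inf_centralizer f (normalizer_commutator_ge_right _ W)
    (coprime_of_le hW hR (inf_le_left.trans
      ((Coprime.commutator_le_of_le_normalizer hWQ).trans inf_le_left)))
    (Or.inl (isSolvable_of_elab hW))]
  exact map_mono (le_hullFixed hb hb1)

theorem mem_normalizer_commutator {y : X} {N B : Subgroup X}
    (hN : y ∈ normalizer (N : Set X)) (hB : y ∈ normalizer (B : Set X)) :
    y ∈ normalizer ((⁅N, B⁆ : Subgroup X) : Set X) := by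
  rw [mem_normalizer_iff_map_conj_eq] at hN hB ⊢
  rw [map_commutator, hN, hB]

section Reduced

variable (hW : Cfsg.IsElementaryAbelian 2 W) (h4 : 4 ≤ Nat.card W) [hRn : R.Normal]
  (htop : R ⊔ W = ⊤) (hR : Odd (Nat.card R))

include hW h4 htop hR

theorem le_of_pieces {K : Subgroup X}
    (hK : ∀ b ∈ W, b ≠ 1 → R ⊓ centralizer ({b} : Set X) ≤ K) : R ≤ K := by
  haveI : Fact (Nat.Prime 2) := ⟨Nat.prime_two⟩
  haveI := hW.1
  exact Coprime.le_of_forall_inf_centralizer_le (not_isCyclic_of_elab hW h4)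
    le_normalizer_of_normal (coprime_of_le hW hR le_rfl) hK

theorem normal_of_le_normalizer {K : Subgroup X} (hWK : W ≤ normalizer (K : Set X))
    (hRK : R ≤ normalizer (K : Set X)) : K.Normal :=
  normalizer_eq_top_iff.1 (top_le_iff.1 (htop ▸ sup_le hRK hWK))

/-- `[N,W] (E ∩ N)` is normal. -/
theorem normal_absorber {N : Subgroup X} (hN : N.Normal) (hNR : N ≤ R)
    (hNc : ∀ m ∈ N, ∀ n ∈ N, m * n = n * m) :
    (⁅N, W⁆ ⊔ (hullFixed R W ⊓ N)).Normal := by
  have := hN
  set E := hullFixed R W with hE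
  set M := ⁅N, W⁆ ⊔ (E ⊓ N) with hM
  have hMN : M ≤ N :=
    sup_le (Coprime.commutator_le_of_le_normalizer le_normalizer_of_normal) inf_le_right
  have hWE : W ≤ normalizer (E : Set X) :=
    ((le_centralizer_iff.1 hullFixed_le_centralizer).trans (centralizer_le_normalizer _))
  have hCE : ∀ c ∈ R ⊓ centralizer (W : Set X), c ∈ normalizer (E : Set X) := by
    intro c hc
    refine ConjFunctor.mem_normalizer_of_forall_conj_mem fun x hx => ?_
    have hRc : R.map (MulAut.conj c).toMonoidHom = R :=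
      mem_normalizer_iff_map_conj_eq.1 (le_normalizer_of_normal (mem_top c))
    have hWc : W.map (MulAut.conj c).toMonoidHom = W :=
      mem_normalizer_iff_map_conj_eq.1 (centralizer_le_normalizer _ hc.2)
    have h := map_hullFixed_le (R := R) (W := W) (MulAut.conj c).toMonoidHom
      (fun b _ hb => (MulAut.conj c).injective (hb.trans (map_one _).symm))
      (mem_map_of_mem (MulAut.conj c).toMonoidHom hx)
    rw [hRc, hWc] at h
    exact h
  have hsup : ∀ {y : X}, y ∈ normalizer ((⁅N, W⁆ : Subgroup X) : Set X) → y ∈ normalizer (E : Set X) →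
      y ∈ normalizer (M : Set X) := by
    intro y h1 h2
    rw [mem_normalizer_iff_map_conj_eq] at h1 h2 ⊢
    rw [hM, Subgroup.map_sup, h1, Subgroup.map_inf _ _ _ (MulAut.conj y).injective, h2,
      mem_normalizer_iff_map_conj_eq.1 (le_normalizer_of_normal (H := N) (mem_top y))]
  refine normal_of_le_normalizer hW h4 htop hR
    (fun w hw => hsup (normalizer_commutator_ge_right N W hw) (hWE hw)) ?_
  refine le_of_pieces hW h4 htop hR fun b hb hb1 => ?_
  set B := zpowers b with hB
  set Q := R ⊓ centralizer ({b} : Set X) with hQ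
  have hWQ : W ≤ normalizer (Q : Set X) :=
    (le_inf le_normalizer_of_normal ((le_centralizer_singleton hW hb).trans le_normalizer)).trans
      inf_normalizer_le_normalizer_inf
  rw [← Coprime.commutator_sup_centralizer hWQ (coprime_of_le hW hR inf_le_left)
    (Or.inl (isSolvable_of_elab hW))]
  refine sup_le ?_ fun c hc => hsup (mem_normalizer_commutator
    (le_normalizer_of_normal (mem_top c)) (centralizer_le_normalizer _ hc.2))
    (hCE c ⟨hc.1.1, hc.2⟩)
  intro y hy
  have hyQ : y ∈ Q := Coprime.commutator_le_of_le_normalizer hWQ hy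
  have hyB : y ∈ centralizer (B : Set X) := centralizer_singleton_eq b ▸ hyQ.2
  -- `[y,n] ∈ M` for all `n ∈ N`
  have key : ∀ n ∈ N, y * n * y⁻¹ * n⁻¹ ∈ M := by
    intro n hn
    rw [← Coprime.commutator_sup_centralizer (A := B) (G := N) le_normalizer_of_normal
      (coprime_zpowers_of_le hW hR hb hNR) (Or.inl (isSolvable_zpowers b))] at hn
    obtain ⟨n₂, hn₂, n₁, hn₁, rfl⟩ := Coprime.exists_mul_of_mem_sup
      (inf_le_left.trans (normalizer_commutator_ge_left N B)) hn
    have h2 : ⁅N, B⁆ ≤ ⁅N, W⁆ := commutator_mono le_rfl (zpowers_le.2 hb)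
    have hn₂' : y * n₂ * y⁻¹ ∈ ⁅N, W⁆ := h2 ((mem_normalizer_iff.1 (mem_normalizer_commutator
      (le_normalizer_of_normal (mem_top y)) (centralizer_le_normalizer _ hyB)) n₂).1 hn₂)
    have hn₁Q : n₁ ∈ Q := ⟨hNR hn₁.1, (centralizer_singleton_eq b).symm ▸ hn₁.2⟩
    have hin : y * n₁ * y⁻¹ * n₁⁻¹ ∈ ⁅Q, W⁆ ⊓ N := by
      refine ⟨?_, N.mul_mem (hN.conj_mem n₁ hn₁.1 y) (N.inv_mem hn₁.1)⟩
      rw [show y * n₁ * y⁻¹ * n₁⁻¹ = y * (n₁ * y⁻¹ * n₁⁻¹) by group]
      exact mul_mem hy ((mem_normalizer_iff.1 (normalizer_commutator_ge_left Q W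
        hn₁Q) _).1 (inv_mem hy))
    have hle : ⁅Q, W⁆ ⊓ N ≤ M := by
      rw [← Coprime.commutator_sup_centralizer (A := W) (G := ⁅Q, W⁆ ⊓ N)
        ((le_inf (normalizer_commutator_ge_right Q W) le_normalizer_of_normal).trans
          inf_normalizer_le_normalizer_inf)
        (coprime_of_le hW hR (inf_le_right.trans hNR)) (Or.inl (isSolvable_of_elab hW))]
      exact sup_le (le_sup_of_le_left (commutator_mono inf_le_right le_rfl))
        (le_sup_of_le_right (le_inf ((inf_le_inf_right _ inf_le_left).trans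
          (le_hullFixed hb hb1)) (inf_le_left.trans inf_le_right)))
    rw [show y * (n₂ * n₁) * y⁻¹ * (n₂ * n₁)⁻¹ =
      (y * n₂ * y⁻¹) * (y * n₁ * y⁻¹ * n₁⁻¹) * n₂⁻¹ by group]
    exact mul_mem (mul_mem (mem_sup_left hn₂') (hle hin)) (inv_mem (mem_sup_left (h2 hn₂)))
  refine ConjFunctor.mem_normalizer_of_forall_conj_mem fun m hm => ?_
  have := mul_mem (key m (hMN hm)) hm
  rwa [inv_mul_cancel_right] at this

/-- The absorber has no fixed points outside the hull. -/
theorem absorber_inf_centralizer {N : Subgroup X} (hN : N.Normal) (hNR : N ≤ R)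
    (hNc : ∀ m ∈ N, ∀ n ∈ N, m * n = n * m) :
    (⁅N, W⁆ ⊔ (hullFixed R W ⊓ N)) ⊓ centralizer (W : Set X) ≤ hullFixed R W := by
  have := hN
  haveI : IsMulCommutative N := ⟨⟨fun a b => Subtype.ext (hNc a a.2 b b.2)⟩⟩
  rintro x ⟨hx, hxW⟩
  obtain ⟨n₁, hn₁, e, he, rfl⟩ := Coprime.exists_mul_of_mem_sup
    (inf_le_right.trans (normalizer_commutator_ge_left N W)) hx
  have h1 : n₁ ∈ centralizer (W : Set X) := by
    have := (centralizer (W : Set X)).mul_mem hxW
      ((centralizer (W : Set X)).inv_mem (hullFixed_le_centralizer he.1))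
    rwa [mul_inv_cancel_right] at this
  have h2 := (Coprime.inf_centralizer_inf_commutator_eq_bot (V := N) (A := W)
    le_normalizer_of_normal (coprime_of_le hW hR hNR)).le
    ⟨⟨Coprime.commutator_le_of_le_normalizer le_normalizer_of_normal hn₁, h1⟩, hn₁⟩
  rw [mem_bot.1 h2, one_mul]
  exact he.1

theorem le_centralizer_of_trivial (hcomm : ⁅R, W⁆ = R) {N : Subgroup X} (hN : N.Normal)
    (hNW : ⁅N, W⁆ = ⊥) : R ≤ centralizer (N : Set X) := by
  have hNC : N ≤ centralizer (W : Set X) := commutator_eq_bot_iff_le_centralizer.1 hNW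
  rw [← hcomm]
  refine commutator_le.2 fun r _ w hw => mem_centralizer_iff.2 fun n hn => ?_
  have h1 := mem_centralizer_iff.1 (hNC hn) w hw
  have h2 := mem_centralizer_iff.1 (hNC (hN.conj_mem n hn r⁻¹)) w hw
  rw [inv_inv] at h2
  rw [commutatorElement_def, eq_comm]
  have h1' : w⁻¹ * n = n * w⁻¹ := by
    rw [inv_mul_eq_iff_eq_mul, ← mul_assoc, h1, mul_inv_cancel_right]
  calc r * w * r⁻¹ * w⁻¹ * n = r * w * r⁻¹ * (w⁻¹ * n) := by group
    _ = r * (w * (r⁻¹ * n * r)) * (r⁻¹ * w⁻¹) := by rw [h1']; group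
    _ = r * ((r⁻¹ * n * r) * w) * (r⁻¹ * w⁻¹) := by rw [h2]
    _ = n * (r * w * r⁻¹ * w⁻¹) := by group

/-- The reduced case. -/
theorem inf_centralizer_le (hcomm : ⁅R, W⁆ = R)
    (hIH : ∀ N : Subgroup X, N.Normal → N ≤ R → N ≠ ⊥ →
      R ⊓ centralizer (W : Set X) ≤ hullFixed R W ⊔ N) :
    R ⊓ centralizer (W : Set X) ≤ hullFixed R W := by
  set E := hullFixed R W with hE
  have hWsolv : Group.IsSolvable W := isSolvable_of_elab hW
  by_cases hex : ∃ N : Subgroup X, N.Normal ∧ N ≤ R ∧ (∀ m ∈ N, ∀ n ∈ N, m * n = n * m) ∧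
      ⁅N, W⁆ ⊔ (E ⊓ N) ≠ ⊥
  · obtain ⟨N, hN, hNR, hNc, hne⟩ := hex
    set M := ⁅N, W⁆ ⊔ (E ⊓ N) with hM
    have hMn : M.Normal := normal_absorber hW h4 htop hR hN hNR hNc
    have hMR : M ≤ R :=
      sup_le ((Coprime.commutator_le_of_le_normalizer le_normalizer_of_normal).trans hNR)
        (inf_le_right.trans hNR)
    intro x hx
    have hx' := hIH M hMn hMR hne hx
    rw [sup_comm] at hx'
    obtain ⟨m, hm, e, he, rfl⟩ := Coprime.exists_mul_of_mem_sup le_normalizer_of_normal hx'
    refine mul_mem (absorber_inf_centralizer hW h4 htop hR hN hNR hNc ⟨hm, ?_⟩) he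
    have := (centralizer (W : Set X)).mul_mem hx.2
      ((centralizer (W : Set X)).inv_mem (hullFixed_le_centralizer he))
    rwa [mul_inv_cancel_right] at this
  push Not at hex
  have htriv : ∀ N : Subgroup X, N.Normal → N ≤ R → (∀ m ∈ N, ∀ n ∈ N, m * n = n * m) →
      N ≤ centralizer (W : Set X) ∧ R ≤ centralizer (N : Set X) ∧ E ⊓ N = ⊥ := by
    intro N hN hNR hNc
    obtain ⟨h1, h2⟩ := sup_eq_bot_iff.1 (hex N hN hNR hNc)
    exact ⟨commutator_eq_bot_iff_le_centralizer.1 h1,
      le_centralizer_of_trivial hW h4 htop hR hcomm hN h1, h2⟩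
  set Z := R ⊓ centralizer (R : Set X) with hZ
  have hZn : Z.Normal := inferInstance
  have hZc : ∀ m ∈ Z, ∀ n ∈ Z, m * n = n * m := fun m hm n hn =>
    mem_centralizer_iff.1 hn.2 m hm.1
  obtain ⟨hZW, -, hEZ⟩ := htriv Z hZn inf_le_left hZc
  have hstep : ∀ L : Subgroup X, L.Normal → L ≤ R → ⁅L, L⁆ ≤ Z → L ≤ Z := by
    intro L hL hLR hLZ
    suffices hLc : ∀ m ∈ L, ∀ n ∈ L, m * n = n * m from
      le_inf hLR (le_centralizer_iff.1 (htriv L hL hLR hLc).2.1)
    by_cases hZb : Z = ⊥
    · intro m hm n hn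
      have := hLZ (commutator_mem_commutator hm hn)
      rwa [hZb, mem_bot, commutatorElement_eq_one_iff_mul_comm] at this
    have hfix := hIH Z hZn inf_le_left hZb
    haveI := hL
    have pieces : ∀ {z : X}, (∀ b ∈ W, b ≠ 1 → L ⊓ centralizer ({b} : Set X) ≤
        centralizer ({z} : Set X)) → L ≤ centralizer ({z} : Set X) := fun {z} h => by
      haveI : Fact (Nat.Prime 2) := ⟨Nat.prime_two⟩
      haveI := hW.1
      exact Coprime.le_of_forall_inf_centralizer_le (not_isCyclic_of_elab hW h4)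
        le_normalizer_of_normal (coprime_of_le hW hR hLR) h
    -- fixed points of `W` in `L` commute
    have hfixc : ∀ m ∈ L ⊓ centralizer (W : Set X), ∀ n ∈ L ⊓ centralizer (W : Set X),
        m * n = n * m := by
      intro m hm n hn
      have hm' := hfix ⟨hLR hm.1, hm.2⟩
      have hn' := hfix ⟨hLR hn.1, hn.2⟩
      rw [sup_comm] at hm' hn'
      obtain ⟨z₁, hz₁, e₁, he₁, rfl⟩ :=
        Coprime.exists_mul_of_mem_sup le_normalizer_of_normal hm'
      obtain ⟨z₂, hz₂, e₂, he₂, rfl⟩ :=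
        Coprime.exists_mul_of_mem_sup le_normalizer_of_normal hn'
      have hER : E ≤ R := hullFixed_le le_normalizer_of_normal
      have hcz : ∀ z ∈ Z, ∀ r ∈ R, Commute z r := fun z hz r hr =>
        (mem_centralizer_iff.1 hz.2 r hr).symm
      have h1 : ⁅z₁ * e₁, z₂ * e₂⁆ = ⁅e₁, e₂⁆ := by
        have a := hcz z₁ hz₁ _ (mul_mem (inf_le_left (a := R) hz₂) (hER he₂))
        have b := hcz z₂ hz₂ _ (hER he₁)
        rw [commutatorElement_def, commutatorElement_def]
        calc z₁ * e₁ * (z₂ * e₂) * (z₁ * e₁)⁻¹ * (z₂ * e₂)⁻¹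
            = z₁ * (e₁ * z₂) * e₂ * e₁⁻¹ * z₁⁻¹ * e₂⁻¹ * z₂⁻¹ := by group
          _ = z₁ * z₂ * (e₁ * e₂ * e₁⁻¹) * z₁⁻¹ * e₂⁻¹ * z₂⁻¹ := by rw [← b.eq]; group
          _ = z₁ * (z₂ * (e₁ * e₂ * e₁⁻¹)) * z₁⁻¹ * e₂⁻¹ * z₂⁻¹ := by group
          _ = z₂ * (e₁ * e₂ * e₁⁻¹) * z₁ * z₁⁻¹ * e₂⁻¹ * z₂⁻¹ := by
            rw [(hcz z₁ hz₁ _ (mul_mem (inf_le_left (a := R) hz₂) (mul_mem (mul_mem (hER he₁)
              (hER he₂)) (inv_mem (hER he₁))))).eq]
          _ = z₂ * (e₁ * e₂ * e₁⁻¹ * e₂⁻¹) * z₂⁻¹ := by group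
          _ = e₁ * e₂ * e₁⁻¹ * e₂⁻¹ := by
            rw [(hcz z₂ hz₂ _ (mul_mem (mul_mem (mul_mem (hER he₁) (hER he₂))
              (inv_mem (hER he₁))) (inv_mem (hER he₂)))).eq, mul_inv_cancel_right]
      rw [← commutatorElement_eq_one_iff_mul_comm, ← mem_bot, ← hEZ]
      refine ⟨?_, hLZ (commutator_mem_commutator hm.1 hn.1)⟩
      rw [h1, commutatorElement_def]
      exact E.mul_mem (E.mul_mem (E.mul_mem he₁ he₂) (E.inv_mem he₁)) (E.inv_mem he₂)
    -- each `C_L(b)` is commutative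
    have hQc : ∀ b ∈ W, b ≠ 1 → ∀ z ∈ L ⊓ centralizer ({b} : Set X),
        L ⊓ centralizer ({b} : Set X) ≤ centralizer ({z} : Set X) := by
      intro b hb hb1
      set Q := L ⊓ centralizer ({b} : Set X) with hQ
      have hWQ : W ≤ normalizer (Q : Set X) :=
        (le_inf le_normalizer_of_normal ((le_centralizer_singleton hW hb).trans
          le_normalizer)).trans inf_normalizer_le_normalizer_inf
      have hQeq := Coprime.commutator_sup_centralizer hWQ
        (coprime_of_le hW hR (inf_le_left.trans hLR)) (Or.inl hWsolv)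
      have hA : ∀ z ∈ Q, ⁅Q, W⁆ ≤ centralizer ({z} : Set X) := by
        intro z hz y hy
        refine mem_centralizer_singleton_iff.2 ?_
        have hyQ : y ∈ Q := Coprime.commutator_le_of_le_normalizer hWQ hy
        have hY : ⁅Q, W⁆ ≤ ⁅R ⊓ centralizer ({b} : Set X), W⁆ :=
          commutator_mono (inf_le_inf_right _ hLR) le_rfl
        rw [← commutatorElement_eq_one_iff_mul_comm, ← mem_bot, ← hEZ]
        have hzZ : ⁅y, z⁆ ∈ Z := hLZ (commutator_mem_commutator hyQ.1 hz.1)
        refine ⟨le_hullFixed hb hb1 ⟨?_, hZW hzZ⟩, hzZ⟩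
        rw [commutatorElement_def, show y * z * y⁻¹ * z⁻¹ = y * (z * y⁻¹ * z⁻¹) by group]
        exact mul_mem (hY hy) ((mem_normalizer_iff.1 (normalizer_commutator_ge_left (R ⊓ centralizer ({b} : Set X)) W
          ⟨hLR hz.1, hz.2⟩) _).1 (inv_mem (hY hy)))
      intro z hz
      rw [← hQeq]
      refine sup_le (hA z hz) fun c hc => ?_
      have hzc : Q ≤ centralizer ({c} : Set X) := by
        rw [← hQeq]
        exact sup_le (hA c hc.1) fun d hd => mem_centralizer_singleton_iff.2
          (hfixc d ⟨hd.1.1, hd.2⟩ c ⟨hc.1.1, hc.2⟩)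
      exact mem_centralizer_singleton_iff.2 (mem_centralizer_singleton_iff.1 (hzc hz)).symm
    -- pieces commute with each other
    have hgen : ∀ b' ∈ W, b' ≠ 1 → ∀ z ∈ L ⊓ centralizer ({b'} : Set X),
        L ≤ centralizer ({z} : Set X) := by
      intro b' hb' hb'1 z hz
      refine pieces fun b hb _ => ?_
      rw [← Coprime.commutator_sup_centralizer (A := zpowers b')
        (G := L ⊓ centralizer ({b} : Set X))
        (((zpowers_le.2 hb').trans (le_inf le_normalizer_of_normal
          ((le_centralizer_singleton hW hb).trans le_normalizer))).trans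
            inf_normalizer_le_normalizer_inf)
        (coprime_zpowers_of_le hW hR hb' (inf_le_left.trans hLR))
        (Or.inl (isSolvable_zpowers b'))]
      refine sup_le (commutator_le.2 fun y hy c hc => mem_centralizer_singleton_iff.2 ?_)
        fun y hy => hQc b' hb' hb'1 z hz
          ⟨hy.1.1, (centralizer_singleton_eq b').symm ▸ hy.2⟩
      have hzC : z ∈ centralizer (zpowers b' : Set X) := centralizer_singleton_eq b' ▸ hz.2
      have hcW : c ∈ W := zpowers_le.2 hb' hc
      have h1 : c * z = z * c := mem_centralizer_iff.1 hzC c hc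
      have h2 : c * ⁅z⁻¹, y⁻¹⁆ = ⁅z⁻¹, y⁻¹⁆ * c := mem_centralizer_iff.1
        (hZW (hLZ (commutator_mem_commutator (inv_mem hz.1) (inv_mem hy.1)))) c hcW
      have h3 : Commute c (y⁻¹ * z * y) := by
        have := (show Commute c z from h1).mul_right (show Commute c ⁅z⁻¹, y⁻¹⁆ from h2)
        rwa [show z * ⁅z⁻¹, y⁻¹⁆ = y⁻¹ * z * y by rw [commutatorElement_def]; group] at this
      rw [commutatorElement_def]
      have h4' : c⁻¹ * z = z * c⁻¹ := ((show Commute c z from h1).inv_left).eq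
      calc y * c * y⁻¹ * c⁻¹ * z = y * c * y⁻¹ * (c⁻¹ * z) := by group
        _ = y * (c * (y⁻¹ * z * y)) * (y⁻¹ * c⁻¹) := by rw [h4']; group
        _ = y * ((y⁻¹ * z * y) * c) * (y⁻¹ * c⁻¹) := by rw [h3.eq]
        _ = z * (y * c * y⁻¹ * c⁻¹) := by group
    intro m hm n hn
    refine (mem_centralizer_singleton_iff.1 ((pieces (z := n) fun b hb hb1 c hc =>
      mem_centralizer_singleton_iff.2 (mem_centralizer_singleton_iff.1
        (hgen b hb hb1 c hc hn)).symm) hm))
  -- `R` is soluble, so `R ≤ Z`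
  have hRZ : R ≤ Z := by
    haveI : Group.IsSolvable R := Cfsg.Agent.S0205.result hR
    obtain ⟨n, hn⟩ := Group.IsSolvable.solvable (G := R)
    have hcl : ∀ i, (derivedSeries R i).map R.subtype ≤ Z → R ≤ Z := by
      intro i
      induction i with
      | zero => intro h; rwa [derivedSeries_zero, ← MonoidHom.range_eq_map, range_subtype] at h
      | succ i ih =>
        intro h
        refine ih (hstep _ inferInstance (map_subtype_le _) ?_)
        rwa [← map_commutator]
    exact hcl n (by rw [hn, Subgroup.map_bot]; exact bot_le)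
  intro x hx
  have : ⁅R, W⁆ = ⊥ := commutator_eq_bot_iff_le_centralizer.2 (hRZ.trans hZW)
  rw [hcomm] at this
  rw [this, bot_inf_eq, mem_bot] at hx
  exact hx ▸ one_mem _

end Reduced

omit [Finite X] in
theorem commutator_inf_centralizer_le_aux : ∀ (n : ℕ) (X : Type u) [Group X] [Finite X]
    (R W : Subgroup X), Nat.card R = n → Odd (Nat.card R) → Cfsg.IsElementaryAbelian 2 W →
    4 ≤ Nat.card W → W ≤ normalizer (R : Set X) →
    ⁅R, W⁆ ⊓ centralizer (W : Set X) ≤ hullFixed R W := by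
  intro n
  induction n using Nat.strong_induction_on with
  | _ n ih =>
  intro X _ _ R W hn hR hW h4 hWR
  subst hn
  haveI : Fact (Nat.Prime 2) := ⟨Nat.prime_two⟩
  have hle := Coprime.commutator_le_of_le_normalizer hWR
  by_cases hcomm : ⁅R, W⁆ = R
  swap
  · refine le_trans ?_ (hullFixed_mono hle)
    have hlt : Nat.card ↥⁅R, W⁆ < Nat.card R :=
      lt_of_le_of_ne (card_le_of_le hle) fun e => hcomm (eq_of_le_of_card_ge hle e.ge)
    have := ih _ hlt X ⁅R, W⁆ W rfl (hR.of_dvd_nat (card_dvd_of_le hle)) hW h4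
      (normalizer_commutator_ge_right R W)
    rwa [Coprime.commutator_commutator_eq hWR (coprime_of_le hW hR le_rfl)] at this
  set H := R ⊔ W with hH
  have hRH : R ≤ H := le_sup_left
  have hWH : W ≤ H := le_sup_right
  set R' := R.subgroupOf H with hR'
  set W' := W.subgroupOf H with hW'
  have eR : R'.map H.subtype = R := map_subgroupOf_eq_of_le hRH
  have eW : W'.map H.subtype = W := map_subgroupOf_eq_of_le hWH
  have cR : Nat.card R' = Nat.card R := Nat.card_congr (subgroupOfEquivOfLe hRH).toEquiv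
  have cW : Nat.card W' = Nat.card W := Nat.card_congr (subgroupOfEquivOfLe hWH).toEquiv
  have hWe : Cfsg.IsElementaryAbelian 2 W' :=
    ⟨⟨⟨fun a c => Subtype.ext (Subtype.ext (congrArg Subtype.val
      (hW.1.is_comm.comm (⟨_, a.2⟩ : W) ⟨_, c.2⟩) :))⟩⟩, fun a ha => Subtype.ext (hW.2 a ha)⟩
  haveI : R'.Normal :=
    (normal_subgroupOf_iff_le_normalizer hRH).2 (sup_le le_normalizer hWR)
  have htop : R' ⊔ W' = ⊤ := by
    rw [hR', hW', ← subgroupOf_sup hRH hWH]; exact subgroupOf_self H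
  have hR'o : Odd (Nat.card R') := cR.symm ▸ hR
  have hcomm' : ⁅R', W'⁆ = R' :=
    map_injective H.subtype_injective (by rw [map_commutator, eR, eW, hcomm])
  have hmain : R' ⊓ centralizer (W' : Set H) ≤ hullFixed R' W' := by
    refine inf_centralizer_le hWe (cW.symm ▸ h4) htop hR'o hcomm' fun N hN hNR hne => ?_
    have := hN
    set π := QuotientGroup.mk' N with hπ
    have hker : ∀ b ∈ W', π b = 1 → b = 1 := fun b hb h => by
      have : b ∈ W' ⊓ N := ⟨hb, (QuotientGroup.eq_one_iff b).1 h⟩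
      rwa [Coprime.inf_eq_bot_of_coprime (coprime_of_le hWe hR'o hNR), mem_bot] at this
    have hlt : Nat.card (R'.map π) < Nat.card R' := by
      refine lt_of_le_of_ne (Nat.le_of_dvd Nat.card_pos (card_map_dvd _ _)) fun e => ?_
      have hbij := (Nat.bijective_iff_surjective_and_card (π.subgroupMap R')).2
        ⟨π.subgroupMap_surjective R', e.symm⟩
      refine hne ((Subgroup.eq_bot_iff_forall _).2 fun m hm => ?_)
      have := hbij.1 (a₁ := ⟨m, hNR hm⟩) (a₂ := 1) (Subtype.ext
        (show π m = π 1 by rw [map_one]; exact (QuotientGroup.eq_one_iff m).2 hm))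
      exact congrArg Subtype.val this
    have hcW : Nat.card (W'.map π) = Nat.card W' :=
      (Nat.card_eq_of_bijective (π.subgroupMap W') ⟨fun a c h => by
        have h' : π (a : H) = π c := congrArg Subtype.val h
        have := hker ((a : H) * (c : H)⁻¹) (mul_mem a.2 (inv_mem c.2))
          (by rw [map_mul, map_inv, h', mul_inv_cancel])
        exact Subtype.ext (mul_inv_eq_one.1 this), π.subgroupMap_surjective W'⟩).symm
    have hIH := ih _ (by rw [← cR]; exact hlt) _ (R'.map π) (W'.map π) rfl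
      (hR'o.of_dvd_nat (card_map_dvd _ _)) (isElementaryAbelian_map hWe π)
      (by rw [hcW, cW]; exact h4)
      ((map_mono (le_normalizer_of_normal (H := R') (K := W'))).trans (le_normalizer_map π))
    have h1 : (R' ⊓ centralizer (W' : Set H)).map π ≤ (hullFixed R' W').map π := by
      refine le_trans (le_trans ?_ hIH) (hullFixed_map_le π hWe hR'o le_normalizer_of_normal)
      rw [← map_commutator, hcomm', Coprime.map_inf_centralizer π le_normalizer_of_normal
        (coprime_of_le hWe hR'o inf_le_left) (Or.inl (isSolvable_of_elab hWe))]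
    rw [Subgroup.map_le_map_iff, QuotientGroup.ker_mk'] at h1
    exact h1
  rw [hcomm, ← eR, ← eW]
  rintro x ⟨⟨y, hy, rfl⟩, hyC⟩
  refine map_hullFixed_le H.subtype (fun b _ hb => Subtype.ext hb) ⟨y, hmain ⟨hy, ?_⟩, rfl⟩
  exact mem_centralizer_iff.2 fun w hw =>
    Subtype.ext (mem_centralizer_iff.1 hyC _ (mem_map_of_mem H.subtype hw))

/-- `[R,W] ∩ C(W)` is generated by the `[C_R(b),W] ∩ C(W)`. -/
theorem commutator_inf_centralizer_le (hR : Odd (Nat.card R))
    (hW : Cfsg.IsElementaryAbelian 2 W) (h4 : 4 ≤ Nat.card W)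
    (hWR : W ≤ normalizer (R : Set X)) :
    ⁅R, W⁆ ⊓ centralizer (W : Set X) ≤ hullFixed R W :=
  commutator_inf_centralizer_le_aux _ X R W rfl hR hW h4 hWR

end CfsgLib.WeakClosureCriterion
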