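import Mathlib
import Cfsg.Agent.WeakClosureCriterion.Fixed
import Cfsg.Agent.SolvSig.Theorem
import Cfsg.Agent.SolvSig.Final
import Cfsg.Agent.ConjFunctor.Basic
import Cfsg.Agent.PLocal.Cores
import Cfsg.Agent.PLocal.Constraint
import Cfsg.Agent.Coprime.SchurZassenhaus
import Cfsg.Agent.ZStar.Theorem
import Cfsg.Agent.S0205

/-!
# A strongly closed central subgroup and a coset of involutions

`T` a Sylow `2`-subgroup, `W` an elementary abelian subgroup of its centre, strongly closed in `T`,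
`t ∈ T` an involution outside `W`. If the centraliser `C` of every `wt`, `w ∈ W`, is
`O(C) N_C(W)`, then `G = O(G) N_G(W)`.
-/

set_option autoImplicit false
set_option linter.style.haveILetI false
set_option linter.unusedSectionVars false
set_option linter.unusedVariables false

open scoped commutatorElement IsMulCommutative Pointwise

namespace CfsgLib.WeakClosureCriterion

open Cfsg Subgroup CfsgLib.Transitivity
open CfsgLib.SolvSig (core')
open CfsgLib.ConjFunctor (mem_cj conj_mem_cj cj_le_iff isSylowIn_top)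

universe u

variable {G : Type u} [Group G]

/-- `C(a) = O(C(a)) (C(a) ∩ N(W))`. -/
def CentSplit (W : Subgroup G) (a : G) : Prop :=
  ∀ c ∈ centralizer ({a} : Set G), ∃ o ∈ core' 2 (centralizer ({a} : Set G)),
    ∃ n ∈ centralizer ({a} : Set G) ⊓ normalizer (W : Set G), c = o * n

/-- The hypotheses. -/
structure Setting (T : Subgroup G) (W : Subgroup G) (t : G) : Prop where
  sylow : ∃ S : Sylow 2 G, (S : Subgroup G) = T
  ne_bot : W ≠ ⊥
  le_T : W ≤ T
  central : ∀ w ∈ W, ∀ s ∈ T, Commute s w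
  sq : ∀ w ∈ W, w * w = 1
  closed : ∀ w ∈ W, ∀ g : G, g * w * g⁻¹ ∈ T → g * w * g⁻¹ ∈ W
  t_mem : t ∈ T
  t_sq : t * t = 1
  t_not : t ∉ W
  split : ∀ w ∈ W, CentSplit W (w * t)

variable [Finite G]

theorem le_normalizer_core' (K : Subgroup G) : K ≤ normalizer (core' 2 K : Set G) :=
  le_normalizer.trans (SolvSig.normalizer_le_normalizer_core' 2 K)

theorem odd_core' (K : Subgroup G) : Odd (Nat.card (core' 2 K)) :=
  Nat.not_even_iff_odd.1 fun h => (Nat.prime_two.coprime_iff_not_dvd.1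
    (SolvSig.card_core'_coprime 2 K).symm) (even_iff_two_dvd.1 h)

theorem core'_subgroupOf_le (H : Subgroup G) (a : H) :
    (core' 2 (centralizer ({(a : G)} : Set G))).subgroupOf H ≤
      core' 2 (centralizer ({a} : Set H)) := by
  refine SolvSig.le_core' (fun x hx => mem_centralizer_singleton_iff.2 (Subtype.ext
    (mem_centralizer_singleton_iff.1 (SolvSig.core'_le 2 _ hx)))) ?_ ?_
  · intro x hx
    refine le_normalizer_comap H.subtype (le_normalizer_core' _ ?_)
    exact mem_centralizer_singleton_iff.2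
      (congrArg Subtype.val (mem_centralizer_singleton_iff.1 hx))
  · exact (SolvSig.card_core'_coprime 2 _).coprime_dvd_left
      (card_comap_dvd_of_injective _ _ H.subtype_injective)

/-- A splitting passes to a subgroup containing both factors. -/
theorem centSplit_subgroupOf {W H : Subgroup G} {a : H} (hsp : CentSplit W (a : G))
    (hH : ∀ o ∈ core' 2 (centralizer ({(a : G)} : Set G)),
      ∀ n ∈ centralizer ({(a : G)} : Set G) ⊓ normalizer (W : Set G), o * n ∈ H → o ∈ H ∧ n ∈ H) :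
    CentSplit (W.subgroupOf H) a := by
  intro c hc
  have hcC : (c : G) ∈ centralizer ({(a : G)} : Set G) :=
    mem_centralizer_singleton_iff.2 (congrArg Subtype.val (mem_centralizer_singleton_iff.1 hc))
  obtain ⟨o, ho, n, hn, hon⟩ := hsp _ hcC
  obtain ⟨hoH, hnH⟩ := hH o ho n hn (hon ▸ c.2)
  refine ⟨⟨o, hoH⟩, core'_subgroupOf_le H a (mem_subgroupOf.2 ho), ⟨n, hnH⟩, ⟨?_, ?_⟩,
    Subtype.ext hon⟩
  · exact mem_centralizer_singleton_iff.2 (Subtype.ext (mem_centralizer_singleton_iff.1 hn.1))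
  · exact ConjFunctor.mem_normalizer_of_forall_conj_mem fun x hx =>
      (mem_normalizer_iff.1 hn.2 (x : G)).1 hx

theorem eq_one_or_eq_of_mem_zpowers {u a : G} (hu : u * u = 1) (ha : a ∈ zpowers u) :
    a = 1 ∨ a = u := by
  obtain ⟨i, rfl⟩ := ha
  rcases Int.even_or_odd i with ⟨j, rfl⟩ | ⟨j, rfl⟩
  · left
    show u ^ (j + j) = 1
    rw [← two_mul, zpow_mul, show u ^ (2 : ℤ) = 1 by rw [zpow_two, hu], one_zpow]
  · right
    show u ^ (2 * j + 1) = u
    rw [zpow_add, zpow_mul, show u ^ (2 : ℤ) = 1 by rw [zpow_two, hu], one_zpow, one_mul, zpow_one]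

theorem isPGroup_zpowers {x : G} (hx : x * x = 1) : IsPGroup 2 (zpowers x) := by
  haveI : Fact (Nat.Prime 2) := ⟨Nat.prime_two⟩
  refine IsPGroup.of_card_dvd_pow (n := 1) ?_
  rw [pow_one, Nat.card_zpowers]
  exact orderOf_dvd_of_pow_eq_one (by rwa [pow_two])

/-- Two involutions: one commutes with `x` times a suitable conjugate of the other. -/
theorem exists_conj_sylow {x y : G} (hxx : x * x = 1) (hyy : y * y = 1) :
    ∃ (d : G) (P : Subgroup G), IsPGroup 2 P ∧ x ∈ P ∧ d * y * d⁻¹ ∈ P ∧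
      (x * (d * y * d⁻¹) * (x * (d * y * d⁻¹)) = 1 → Commute y (x * (d * y * d⁻¹))) := by
  haveI : Fact (Nat.Prime 2) := ⟨Nat.prime_two⟩
  set D := closure ({x, y} : Set G) with hD
  have hxD : x ∈ D := subset_closure (Or.inl rfl)
  have hyD : y ∈ D := subset_closure (Or.inr rfl)
  obtain ⟨P, hxP, hP⟩ := ConjFunctor.exists_isSylowIn_ge (zpowers_le.2 hxD) (isPGroup_zpowers hxx)
  obtain ⟨d, hd, hdy⟩ := hP.exists_cj_le (zpowers_le.2 hyD) (isPGroup_zpowers hyy)
  refine ⟨d, P, hP.2.1, hxP (mem_zpowers x), hdy (conj_mem_cj d (mem_zpowers y)), fun hw => ?_⟩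
  set C0 := zpowers (x * y)
  have hxi : x⁻¹ = x := inv_eq_of_mul_eq_one_right hxx
  have hyi : y⁻¹ = y := inv_eq_of_mul_eq_one_right hyy
  have hinvx : ∀ t ∈ C0, x * t * x⁻¹ = t⁻¹ := by
    rintro _ ⟨i, rfl⟩
    rw [← conj_zpow, ← inv_zpow]
    congr 1
    rw [mul_inv_rev, hxi, hyi, ← mul_assoc, hxx, one_mul]
  have hinvy : ∀ t ∈ C0, y * t * y⁻¹ = t⁻¹ := by
    rintro _ ⟨i, rfl⟩
    rw [← conj_zpow, ← inv_zpow]
    congr 1
    rw [mul_inv_rev, hxi, hyi, mul_assoc y, mul_assoc x, hyy, mul_one]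
  have hgood : ∀ e ∈ D, (∀ t ∈ C0, e * t * e⁻¹ ∈ C0) ∧ (∀ t ∈ C0, e⁻¹ * t * e ∈ C0) ∧
      e * y * e⁻¹ * y⁻¹ ∈ C0 := by
    intro e he
    induction he using closure_induction with
    | mem z hz =>
      rcases hz with rfl | rfl
      · refine ⟨fun t ht => hinvx t ht ▸ inv_mem ht, fun t ht => ?_, ?_⟩
        · have := hinvx t ht
          rw [hxi] at this ⊢
          exact this ▸ inv_mem ht
        · rw [hxi, hyi, show z * y * z * y = (z * y) ^ 2 by rw [pow_two]; group]
          exact pow_mem (mem_zpowers _) 2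
      · refine ⟨fun t ht => hinvy t ht ▸ inv_mem ht, fun t ht => ?_, ?_⟩
        · have := hinvy t ht
          rw [hyi] at this ⊢
          exact this ▸ inv_mem ht
        · simp
    | one => simp
    | mul p q _ _ hp hq =>
      refine ⟨fun t ht => ?_, fun t ht => ?_, ?_⟩
      · rw [show p * q * t * (p * q)⁻¹ = p * (q * t * q⁻¹) * p⁻¹ by group]
        exact hp.1 _ (hq.1 t ht)
      · rw [show (p * q)⁻¹ * t * (p * q) = q⁻¹ * (p⁻¹ * t * p) * q by group]
        exact hq.2.1 _ (hp.2.1 t ht)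
      · rw [show p * q * y * (p * q)⁻¹ * y⁻¹ =
          p * (q * y * q⁻¹ * y⁻¹) * p⁻¹ * (p * y * p⁻¹ * y⁻¹) by group]
        exact mul_mem (hp.1 _ hq.2.2) hp.2.2
    | inv p _ hp =>
      refine ⟨fun t ht => ?_, fun t ht => ?_, ?_⟩
      · rw [inv_inv]; exact hp.2.1 t ht
      · rw [inv_inv]; exact hp.1 t ht
      · rw [show p⁻¹ * y * p⁻¹⁻¹ * y⁻¹ = p⁻¹ * (p * y * p⁻¹ * y⁻¹)⁻¹ * p by group]
        exact hp.2.1 _ (inv_mem hp.2.2)
  have hwC : x * (d * y * d⁻¹) ∈ C0 := by
    have h1 : x * (d * y * d⁻¹) = x * y * (y⁻¹ * (d * y * d⁻¹ * y⁻¹) * y) := by group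
    rw [h1]
    exact mul_mem (mem_zpowers _) ((hgood y hyD).2.1 _ (hgood d hd).2.2)
  have := hinvy _ hwC
  rw [inv_eq_of_mul_eq_one_right hw] at this
  exact (mul_inv_eq_iff_eq_mul.1 this : Commute y _)

namespace Setting

variable {T W : Subgroup G} {t : G} (h : Setting T W t)

include h

theorem isPGroup_T : IsPGroup 2 T := by
  obtain ⟨S, rfl⟩ := h.sylow
  exact S.2

theorem isSylowIn_T : ConjFunctor.IsSylowIn 2 T ⊤ := by
  haveI : Fact (Nat.Prime 2) := ⟨Nat.prime_two⟩
  obtain ⟨S, rfl⟩ := h.sylow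
  exact isSylowIn_top S

theorem elemAb : IsElementaryAbelian 2 W :=
  ⟨⟨⟨fun a b => Subtype.ext (h.central b b.2 a (h.le_T a.2)).eq⟩⟩,
    fun a ha => by rw [pow_two]; exact h.sq a ha⟩

theorem T_le_centralizer {w : G} (hw : w ∈ W) : T ≤ centralizer ({w} : Set G) :=
  fun s hs => mem_centralizer_singleton_iff.2 (h.central w hw s hs).eq

theorem W_le_centralizer {a : G} (ha : a ∈ T) : W ≤ centralizer ({a} : Set G) :=
  fun w hw => mem_centralizer_singleton_iff.2 (h.central w hw a ha).eq.symm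

/-- `C(a) ∩ N(W)` inherits the hypotheses. -/
theorem restrict {w₀ : G} (hw₀ : w₀ ∈ W) :
    Setting (T.subgroupOf (centralizer ({w₀} : Set G))) (W.subgroupOf (centralizer ({w₀} : Set G)))
      ⟨t, h.T_le_centralizer hw₀ h.t_mem⟩ := by
  set H := centralizer ({w₀} : Set G) with hH
  have hTH : T ≤ H := h.T_le_centralizer hw₀
  have hWH : W ≤ H := h.le_T.trans hTH
  refine ⟨?_, ?_, fun x hx => h.le_T hx, fun w hw s hs => Subtype.ext (h.central w hw s hs).eq,
    fun w hw => Subtype.ext (h.sq w hw), fun w hw g hg => h.closed w hw g hg, h.t_mem,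
    Subtype.ext h.t_sq, h.t_not, ?_⟩
  · obtain ⟨S, rfl⟩ := h.sylow
    exact ⟨S.subtype hTH, S.coe_subtype hTH⟩
  · intro e
    exact h.ne_bot (by rw [← map_subgroupOf_eq_of_le hWH, e, Subgroup.map_bot])
  · intro w hw
    refine centSplit_subgroupOf (h.split _ hw) fun o ho n hn hon => ?_
    have hw1 : n * w₀ * n⁻¹ ∈ W := (mem_normalizer_iff.1 hn.2 w₀).1 hw₀
    have hxT : (w : G) * t ∈ T := T.mul_mem (h.le_T hw) h.t_mem
    have how : o * (n * w₀ * n⁻¹) * o⁻¹ = w₀ := by
      have hcw : o * n * w₀ * (o * n)⁻¹ = w₀ := by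
        rw [mem_centralizer_singleton_iff.1 hon, mul_inv_cancel_right]
      refine Eq.trans ?_ hcw
      group
    have hone : w₀ * (n * w₀ * n⁻¹)⁻¹ ∈ core' 2 (centralizer ({(w : G) * t} : Set G)) ⊓ T := by
      refine ⟨?_, T.mul_mem (h.le_T hw₀) (T.inv_mem (h.le_T hw1))⟩
      conv => arg 2; arg 1; rw [← how]
      rw [mul_assoc o, mul_assoc o]
      exact mul_mem ho ((mem_normalizer_iff.1
        (le_normalizer_core' _ (h.W_le_centralizer hxT hw1)) _).1 (inv_mem ho))
    rw [inf_comm, PLocal.disjoint_of_isPGroup_of_coprime h.isPGroup_T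
      (SolvSig.card_core'_coprime 2 _), mem_bot, mul_inv_eq_one] at hone
    have hnH : n ∈ H := mem_centralizer_singleton_iff.2 (mul_inv_eq_iff_eq_mul.1 hone.symm)
    refine ⟨?_, hnH⟩
    have := H.mul_mem hon (H.inv_mem hnH)
    rwa [mul_inv_cancel_right] at this

/-- The conjugates of elements of `W` in the centraliser of `x`. -/
theorem conj_mem {x : G} (hxT : x ∈ T) (hxx : x * x = 1) (hsp : CentSplit W x) {g w₁ : G}
    (hw₁ : w₁ ∈ W) (hv : g * w₁ * g⁻¹ ∈ centralizer ({x} : Set G)) :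
    ∃ r ∈ ⁅core' 2 (centralizer ({x} : Set G)), W⁆, ∃ u ∈ W, g * w₁ * g⁻¹ = r * u * r⁻¹ := by
  haveI : Fact (Nat.Prime 2) := ⟨Nat.prime_two⟩
  set C := centralizer ({x} : Set G) with hC
  have hWC : W ≤ C := h.W_le_centralizer hxT
  obtain ⟨R, hWR, hR⟩ := ConjFunctor.exists_isSylowIn_ge hWC (h.isPGroup_T.to_le h.le_T)
  obtain ⟨k, -, hk⟩ := h.isSylowIn_T.exists_cj_le le_top hR.2.1
  have hkW : k ∈ normalizer (W : Set G) := ConjFunctor.mem_normalizer_of_forall_conj_mem
    fun w hw => h.closed w hw k (hk (conj_mem_cj k (hWR hw)))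
  obtain ⟨c, hcC, hc⟩ := hR.exists_cj_le (zpowers_le.2 hv)
    (isPGroup_zpowers (by
      rw [show g * w₁ * g⁻¹ * (g * w₁ * g⁻¹) = g * (w₁ * w₁) * g⁻¹ by group, h.sq _ hw₁, mul_one,
        mul_inv_cancel]))
  have hu : c * (g * w₁ * g⁻¹) * c⁻¹ ∈ W := by
    refine (mem_normalizer_iff.1 hkW _).2 ?_
    rw [show k * (c * (g * w₁ * g⁻¹) * c⁻¹) * k⁻¹ = k * c * g * w₁ * (k * c * g)⁻¹ by group]
    refine h.closed _ hw₁ _ ?_
    rw [show k * c * g * w₁ * (k * c * g)⁻¹ = k * (c * (g * w₁ * g⁻¹) * c⁻¹) * k⁻¹ by group]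
    exact hk (conj_mem_cj k (hc (conj_mem_cj c (mem_zpowers _))))
  obtain ⟨o, ho, n, hn, hon⟩ := hsp _ (inv_mem hcC)
  have hWN : W ≤ normalizer (core' 2 C : Set G) := hWC.trans (le_normalizer_core' C)
  rw [← Coprime.commutator_sup_centralizer hWN
    (coprime_card_of_elab h.elemAb (odd_core' C).not_two_dvd_nat)
    (Or.inl (isSolvable_of_elab h.elemAb))] at ho
  obtain ⟨r, hr, c', hc', rfl⟩ := Coprime.exists_mul_of_mem_sup
    (inf_le_left.trans (normalizer_commutator_ge_left _ W)) ho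
  refine ⟨r, hr, _, (mem_normalizer_iff.1 hn.2 _).1 hu, ?_⟩
  have hc'u := mem_centralizer_iff.1 hc'.2 _ ((mem_normalizer_iff.1 hn.2 _).1 hu)
  calc g * w₁ * g⁻¹ = c⁻¹ * (c * (g * w₁ * g⁻¹) * c⁻¹) * (c⁻¹)⁻¹ := by group
    _ = r * (c' * (n * (c * (g * w₁ * g⁻¹) * c⁻¹) * n⁻¹)) * c'⁻¹ * r⁻¹ := by rw [hon]; group
    _ = r * (n * (c * (g * w₁ * g⁻¹) * c⁻¹) * n⁻¹) * r⁻¹ := by
      rw [← hc'u]; group

/-- The case of an involution without fusion. -/
theorem good_of_isolated {u : G} (hu : u ∈ W) (hu1 : u ≠ 1)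
    (hdec : ∀ w ∈ W, ∃ z ∈ W, z ∈ center G ∧ (w = z ∨ w = u * z)) (g : G) :
    ∃ o ∈ pPrimeCore 2 G, ∃ n ∈ normalizer (W : Set G), g = o * n := by
  haveI : Fact (Nat.Prime 2) := ⟨Nat.prime_two⟩
  obtain ⟨S, hS⟩ := h.sylow
  have huT : u ∈ T := h.le_T hu
  have hiso : ∀ g : G, g * u * g⁻¹ ∈ T → g * u * g⁻¹ = u := by
    intro g hg
    set v := g * u * g⁻¹ with hv
    have hvW : v ∈ W := h.closed u hu g hg
    obtain ⟨z, hzW, hz, hzc⟩ := hdec v hvW
    have hconj : ∀ y : G, y * z * y⁻¹ = z := fun y => by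
      rw [mem_center_iff.1 hz y, mul_inv_cancel_right]
    rcases hzc with hzc | hzc
    · rw [hzc, show u = g⁻¹ * v * g⁻¹⁻¹ by rw [hv]; group, hzc, hconj]
    have hgT : ConjFunctor.IsSylowIn 2 (T.map (MulAut.conj g).toMonoidHom)
        (centralizer ({v} : Set G)) := by
      refine (h.isSylowIn_T.cj g).of_le ?_ fun x _ => ⟨g⁻¹ * x * g, mem_top _, by simp [mul_assoc]⟩
      rintro _ ⟨s, hs, rfl⟩
      refine mem_centralizer_singleton_iff.2 ?_
      show g * s * g⁻¹ * v = v * (g * s * g⁻¹)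
      calc g * s * g⁻¹ * v = g * (s * u) * g⁻¹ := by rw [hv]; group
        _ = g * (u * s) * g⁻¹ := by rw [(h.central u hu s hs).eq]
        _ = v * (g * s * g⁻¹) := by rw [hv]; group
    obtain ⟨c, hc, hce⟩ := (h.isSylowIn_T.of_le (h.T_le_centralizer hvW) le_top).exists_cj_eq hgT
    set n := c * g with hn
    have hnT : T.map (MulAut.conj n).toMonoidHom = T := by rw [hn, ← ConjFunctor.cj_cj]; exact hce
    have hnN : n ∈ normalizer (T : Set G) := ConjFunctor.mem_normalizer_iff_cj.2 hnT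
    have hnu : n * u * n⁻¹ = v := by
      rw [hn, show c * g * u * (c * g)⁻¹ = c * v * c⁻¹ by rw [hv]; group,
        mem_centralizer_singleton_iff.1 hc, mul_inv_cancel_right]
    have h2 : Commute (n * n) u := by
      have e : n * v * n⁻¹ = u := by
        rw [hzc, show n * (u * z) * n⁻¹ = (n * u * n⁻¹) * (n * z * n⁻¹) by group, hnu, hconj, hzc,
          mul_assoc, h.sq z hzW, mul_one]
      rw [← hnu] at e
      have : n * n * u = u * (n * n) := by
        calc n * n * u = n * (n * u * n⁻¹) * n⁻¹ * (n * n) := by group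
          _ = u * (n * n) := by rw [e]
      exact this
    set N := normalizer (T : Set G) with hN
    haveI hTn : (T.subgroupOf N).Normal := (normal_subgroupOf_iff_le_normalizer le_normalizer).2 le_rfl
    have hm : Odd (T.subgroupOf N).index := Nat.not_even_iff_odd.1 fun he =>
      (h.isSylowIn_T.of_le le_normalizer le_top).2.2 (even_iff_two_dvd.1 he)
    have hpow : n ^ (T.subgroupOf N).index ∈ T := by
      have h1 : ((⟨n, hnN⟩ : N) ^ (T.subgroupOf N).index : N) ∈ T.subgroupOf N := by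
        rw [← QuotientGroup.eq_one_iff, QuotientGroup.mk_pow, Subgroup.index_eq_card]
        exact pow_card_eq_one'
      exact h1
    obtain ⟨j, hj⟩ := hm
    have hc1 : Commute (n ^ (T.subgroupOf N).index) u := h.central u hu _ hpow
    rw [hj, pow_succ', pow_mul, pow_two] at hc1
    have hc2 := h2.pow_left j
    have hcu : Commute n u := by
      have := hc1.mul_left hc2.inv_left
      rwa [mul_inv_cancel_right] at this
    rw [← hnu, hcu.eq, mul_inv_cancel_right]
  obtain ⟨N, hN, hodd, hc⟩ := ZStar.exists_oddNormal_of_sylow (u := u) S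
    (orderOf_eq_prime (by rw [pow_two, h.sq u hu]) hu1)
    (show u ∈ (S : Subgroup G) by rw [hS]; exact huT)
    (fun g hg => hiso g (by rw [← hS]; exact hg))
  haveI := hN
  obtain ⟨c, hcC, hcN⟩ := Coprime.exists_fixed_mem_coset (A := zpowers u) (N := N) (k := g)
    le_normalizer_of_normal ((by
      rw [Nat.card_zpowers, orderOf_eq_prime (by rw [pow_two, h.sq u hu]) hu1]
      exact (Nat.prime_two.coprime_iff_not_dvd).2 hodd.not_two_dvd_nat))
    (Or.inl (isSolvable_zpowers u)) (by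
      intro a ha
      rcases eq_one_or_eq_of_mem_zpowers (h.sq u hu) ha with rfl | rfl
      · simp
      · have := hN.conj_mem _ (hc g) g⁻¹
        rwa [show g⁻¹ * (a * g * a⁻¹ * g⁻¹) * g⁻¹⁻¹ = g⁻¹ * (a * g * a⁻¹) by group] at this)
  refine ⟨c * (g⁻¹ * c)⁻¹ * c⁻¹, PLocal.le_pPrimeCore (PLocal.not_dvd_iff_coprime.2
    hodd.not_two_dvd_nat) (hN.conj_mem _ (inv_mem hcN) c), c, ?_, by group⟩
  refine centralizer_le_normalizer _ (mem_centralizer_iff.2 fun w hw => ?_)
  have hcu : u * c = c * u := mem_centralizer_iff.1 hcC u (mem_zpowers u)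
  obtain ⟨z, -, hz, rfl | rfl⟩ := hdec w hw
  · exact (mem_center_iff.1 hz c).symm
  · rw [mul_assoc, ← mem_center_iff.1 hz c, ← mul_assoc, hcu, mul_assoc]

end Setting

/-- The data for the signalizer functor. -/
structure Datum (T W : Subgroup G) (t : G) (W' A : Subgroup G) : Prop where
  setting : Setting T W t
  sub : W' ≤ W
  gen : ∀ w ∈ W, ∃ a ∈ W', ∃ z ∈ center G, w = a * z
  four : 4 ≤ Nat.card W'
  A_eq : A = W' ⊔ zpowers t
  split : ∀ a ∈ A, a ≠ 1 → CentSplit W a

/-- The signalizer functor. -/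
def theta (W : Subgroup G) (a : G) : Subgroup G :=
  ⁅core' 2 (centralizer ({a} : Set G)), W⁆ ⊔
    (core' 2 (centralizer (W : Set G)) ⊓ centralizer ({a} : Set G))

namespace Datum

variable {T W W' A : Subgroup G} {t : G} (d : Datum T W t W' A)

include d

theorem A_le_T : A ≤ T :=
  d.A_eq ▸ sup_le (d.sub.trans d.setting.le_T) (zpowers_le.2 d.setting.t_mem)

theorem mem_A {a : G} (ha : a ∈ A) : ∃ w ∈ W', a = w ∨ a = w * t := by
  rw [d.A_eq] at ha
  obtain ⟨w, hw, s, hs, rfl⟩ := Coprime.exists_mul_of_mem_sup ((zpowers_le.2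
    (mem_centralizer_iff.2 fun w hw =>
      (d.setting.central w (d.sub hw) t d.setting.t_mem).eq.symm)).trans
    (centralizer_le_normalizer _)) ha
  rcases eq_one_or_eq_of_mem_zpowers d.setting.t_sq hs with rfl | rfl
  · exact ⟨w, hw, Or.inl (mul_one w)⟩
  · exact ⟨w, hw, Or.inr rfl⟩

theorem elemAb : IsElementaryAbelian 2 A := by
  have h := d.setting
  refine ⟨⟨⟨fun a b => Subtype.ext ?_⟩⟩, fun a ha => ?_⟩
  · have hc : ∀ w ∈ W', Commute w (b : G) := fun w hw =>
      (h.central w (d.sub hw) b (d.A_le_T b.2)).symm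
    have ht : Commute t (b : G) := by
      obtain ⟨w, hw, hb | hb⟩ := d.mem_A b.2 <;> rw [hb]
      · exact h.central w (d.sub hw) t h.t_mem
      · exact (h.central w (d.sub hw) t h.t_mem).mul_right (Commute.refl t)
    obtain ⟨w, hw, ha | ha⟩ := d.mem_A a.2
    · show (a : G) * b = b * a; rw [ha]; exact (hc w hw).eq
    · show (a : G) * b = b * a; rw [ha]; exact ((hc w hw).mul_left ht).eq
  · rw [pow_two]
    obtain ⟨w, hw, rfl | rfl⟩ := d.mem_A ha
    · exact h.sq a (d.sub hw)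
    · calc w * t * (w * t) = w * (t * w) * t := by group
        _ = w * (w * t) * t := by rw [(h.central w (d.sub hw) t h.t_mem).eq]
        _ = (w * w) * (t * t) := by group
        _ = 1 := by rw [h.sq w (d.sub hw), h.t_sq, one_mul]

theorem eight : 2 ^ 3 ≤ Nat.card A := by
  have hlt : W' < A := lt_of_le_of_ne (d.A_eq ▸ le_sup_left) fun e => d.setting.t_not (d.sub
    (e ▸ (d.A_eq ▸ mem_sup_right (mem_zpowers t) : t ∈ A)))
  have h4 := d.four
  obtain ⟨k, hk⟩ := card_dvd_of_le hlt.le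
  rcases k with _ | _ | k
  · exact absurd hk (by rw [mul_zero]; exact Nat.card_pos.ne')
  · exact absurd (eq_of_le_of_card_ge hlt.le (by rw [hk]; simp)) hlt.ne
  · rw [hk]; nlinarith

theorem elemAb' : IsElementaryAbelian 2 W' :=
  ⟨⟨⟨fun a b => Subtype.ext (d.setting.central b (d.sub b.2) a
    (d.setting.le_T (d.sub a.2))).eq⟩⟩, fun a ha => by rw [pow_two]; exact d.setting.sq a (d.sub ha)⟩

theorem centralizer_sub : centralizer (W' : Set G) = centralizer (W : Set G) := by
  refine le_antisymm (fun c hc => mem_centralizer_iff.2 fun w hw => ?_)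
    (centralizer_le (SetLike.coe_subset_coe.2 d.sub))
  obtain ⟨a, ha, z, hz, rfl⟩ := d.gen w hw
  rw [mul_assoc, ← mem_center_iff.1 hz c, ← mul_assoc, mem_centralizer_iff.1 hc a ha, mul_assoc]

theorem commutator_sub (K : Subgroup G) : ⁅K, W'⁆ = ⁅K, W⁆ := by
  refine le_antisymm (commutator_mono le_rfl d.sub) (commutator_le.2 fun k hk w hw => ?_)
  obtain ⟨a, ha, z, hz, rfl⟩ := d.gen w hw
  have : ⁅k, a * z⁆ = ⁅k, a⁆ := by
    rw [commutatorElement_def, commutatorElement_def, mul_inv_rev]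
    have hz' := mem_center_iff.1 hz k⁻¹
    calc k * (a * z) * k⁻¹ * (z⁻¹ * a⁻¹) = k * a * (z * k⁻¹) * z⁻¹ * a⁻¹ := by group
      _ = k * a * (k⁻¹ * z) * z⁻¹ * a⁻¹ := by rw [hz']
      _ = k * a * k⁻¹ * a⁻¹ := by group
  rw [this]
  exact commutator_mem_commutator hk ha

/-- Odd invariant subgroups of `C(a)` have their commutators with `W` in the core. -/
theorem commutator_le_core {a : G} (ha : a ∈ A) (ha1 : a ≠ 1) {Q : Subgroup G}
    (hQ : Q ≤ centralizer ({a} : Set G)) (hodd : Odd (Nat.card Q))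
    (hWQ : W ≤ normalizer (Q : Set G)) :
    ⁅Q, W⁆ ≤ core' 2 (centralizer ({a} : Set G)) := by
  set O := core' 2 (centralizer ({a} : Set G)) with hO
  have hWC : W ≤ centralizer ({a} : Set G) := d.setting.W_le_centralizer (d.A_le_T ha)
  refine commutator_le.2 fun q hq w hw => ?_
  have hqwQ : ⁅q, w⁆ ∈ Q :=
    Coprime.commutator_le_of_le_normalizer hWQ (commutator_mem_commutator hq hw)
  obtain ⟨o, ho, n, hn, rfl⟩ := d.split a ha ha1 q (hQ hq)
  set v := n * w * n⁻¹ * w⁻¹ with hv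
  have hvW : v ∈ W := W.mul_mem ((mem_normalizer_iff.1 hn.2 w).1 hw) (W.inv_mem hw)
  have hnorm : ∀ x ∈ W, ∀ y ∈ O, x * y * x⁻¹ ∈ O := fun x hx y hy =>
    (mem_normalizer_iff.1 (le_normalizer_core' _ (hWC hx)) y).1 hy
  obtain ⟨e, he, hev⟩ : ∃ e ∈ O, ⁅o * n, w⁆ = e * v := by
    refine ⟨o * ((n * w * n⁻¹) * o⁻¹ * (n * w * n⁻¹)⁻¹), mul_mem ho (hnorm _
      ((mem_normalizer_iff.1 hn.2 w).1 hw) _ (inv_mem ho)), ?_⟩
    rw [commutatorElement_def, hv]; group
  rw [hev] at hqwQ ⊢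
  have hsq : (e * v) ^ 2 ∈ O := by
    have hvi : v⁻¹ = v := inv_eq_of_mul_eq_one_right (d.setting.sq v hvW)
    have := mul_mem he (hnorm v hvW e he)
    rw [hvi, show e * (v * e * v) = e * v * (e * v) by group, ← pow_two] at this
    exact this
  refine SolvSig.mem_of_pow_mem ?_ hsq
  exact ((Nat.prime_two.coprime_iff_not_dvd).2 fun hd => hodd.not_two_dvd_nat
    (hd.trans (orderOf_dvd_natCard (⟨_, hqwQ⟩ : Q) |> fun h => by rwa [← Subgroup.orderOf_coe] at h))).symm

theorem commutator_le_commutator_core {a : G} (ha : a ∈ A) (ha1 : a ≠ 1) {Q : Subgroup G}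
    (hQ : Q ≤ centralizer ({a} : Set G)) (hodd : Odd (Nat.card Q))
    (hWQ : W ≤ normalizer (Q : Set G)) :
    ⁅Q, W⁆ ≤ ⁅core' 2 (centralizer ({a} : Set G)), W⁆ := by
  haveI : Fact (Nat.Prime 2) := ⟨Nat.prime_two⟩
  rw [← Coprime.commutator_commutator_eq hWQ
    (coprime_card_of_elab d.setting.elemAb hodd.not_two_dvd_nat)]
  exact commutator_mono (d.commutator_le_core ha ha1 hQ hodd hWQ) le_rfl

/-- The fixed points of `W` in `[O(C(a)),W]`. -/
theorem fixed_le {a : G} (ha : a ∈ A) :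
    ⁅core' 2 (centralizer ({a} : Set G)), W⁆ ⊓ centralizer (W : Set G) ≤
      core' 2 (centralizer (W : Set G)) := by
  have hWC : W ≤ centralizer ({a} : Set G) := d.setting.W_le_centralizer (d.A_le_T ha)
  set O := core' 2 (centralizer ({a} : Set G)) with hO
  have hWO : W' ≤ normalizer (O : Set G) := d.sub.trans (hWC.trans (le_normalizer_core' _))
  rw [← d.commutator_sub O, ← d.centralizer_sub]
  refine (commutator_inf_centralizer_le (odd_core' _) d.elemAb' d.four hWO).trans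
    (iSup_le fun b => ?_)
  rw [d.commutator_sub, d.centralizer_sub]
  have hbW : (b : G) ∈ W := d.sub b.2.1
  have hbA : (b : G) ∈ A := d.A_eq ▸ mem_sup_left b.2.1
  set Cb := centralizer ({(b : G)} : Set G) with hCb
  have hWb : W ≤ Cb := d.setting.W_le_centralizer (d.setting.le_T hbW)
  refine (inf_le_inf_right _ (d.commutator_le_core hbA b.2.2 inf_le_right
    ((odd_core' _).of_dvd_nat (card_dvd_of_le inf_le_left))
    ((le_inf (hWC.trans (le_normalizer_core' _)) (hWb.trans le_normalizer)).trans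
      inf_normalizer_le_normalizer_inf))).trans (SolvSig.le_core' inf_le_right
      ((le_inf ((centralizer_le (Set.singleton_subset_iff.2 hbW)).trans (le_normalizer_core' _))
        le_normalizer).trans inf_normalizer_le_normalizer_inf)
      ((SolvSig.card_core'_coprime 2 _).coprime_dvd_left (card_dvd_of_le inf_le_left)))

theorem delta_le_normalizer {a : G} :
    core' 2 (centralizer (W : Set G)) ⊓ centralizer ({a} : Set G) ≤
      normalizer ((⁅core' 2 (centralizer ({a} : Set G)), W⁆ : Subgroup G) : Set G) :=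
  fun x hx => mem_normalizer_commutator (le_normalizer_core' _ hx.2)
    (centralizer_le_normalizer _ (SolvSig.core'_le 2 _ hx.1))

theorem theta_le {a : G} (ha : a ∈ A) : theta W a ≤ centralizer ({a} : Set G) :=
  sup_le ((Coprime.commutator_le_of_le_normalizer ((d.setting.W_le_centralizer
    (d.A_le_T ha)).trans (le_normalizer_core' _))).trans (SolvSig.core'_le 2 _)) inf_le_right

theorem odd_theta {a : G} (ha : a ∈ A) : Odd (Nat.card (theta W a)) :=
  Nat.not_even_iff_odd.1 fun he => by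
    have h1 := SolvSig.coprime_card_sup (r := 2) (d.delta_le_normalizer (a := a))
      ((SolvSig.card_core'_coprime 2 _).coprime_dvd_left (card_dvd_of_le
        (Coprime.commutator_le_of_le_normalizer ((d.setting.W_le_centralizer
          (d.A_le_T ha)).trans (le_normalizer_core' _)))))
      ((SolvSig.card_core'_coprime 2 _).coprime_dvd_left (card_dvd_of_le inf_le_left))
    exact (Nat.prime_two.coprime_iff_not_dvd.1 h1.symm) (even_iff_two_dvd.1 he)

theorem normalizes {a y : G} (ha : a ∈ A) (hyC : y ∈ centralizer ({a} : Set G))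
    (hyW : y ∈ centralizer (W : Set G)) : y ∈ normalizer (theta W a : Set G) := by
  have h1 := mem_normalizer_commutator (le_normalizer_core' _ hyC)
    (centralizer_le_normalizer _ hyW)
  have h2 : y ∈ normalizer ((core' 2 (centralizer (W : Set G)) ⊓
      centralizer ({a} : Set G) : Subgroup G) : Set G) :=
    inf_normalizer_le_normalizer_inf ⟨le_normalizer_core' _ hyW, le_normalizer hyC⟩
  rw [mem_normalizer_iff_map_conj_eq] at h1 h2 ⊢
  rw [theta, Subgroup.map_sup, h1, h2]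

theorem W_le_normalizer {a : G} (ha : a ∈ A) : W ≤ normalizer (theta W a : Set G) :=
  fun w hw => d.normalizes ha (d.setting.W_le_centralizer (d.A_le_T ha) hw)
    (mem_centralizer_iff.2 fun x hx =>
      (d.setting.central w hw x (d.setting.le_T hx)).eq)

theorem A_le_normalizer {a : G} (ha : a ∈ A) : A ≤ normalizer (theta W a : Set G) :=
  fun b hb => d.normalizes ha (mem_centralizer_singleton_iff.2
      (congrArg Subtype.val (d.elemAb.1.is_comm.comm ⟨b, hb⟩ ⟨a, ha⟩)))
    (mem_centralizer_iff.2 fun x hx => (d.setting.central x hx b (d.A_le_T hb)).eq.symm)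

theorem balance {a b : G} (ha : a ∈ A) (hb : b ∈ A) (hb1 : b ≠ 1) :
    theta W a ⊓ centralizer ({b} : Set G) ≤ theta W b := by
  haveI : Fact (Nat.Prime 2) := ⟨Nat.prime_two⟩
  set Q := theta W a ⊓ centralizer ({b} : Set G) with hQ
  have hWQ : W ≤ normalizer (Q : Set G) := (le_inf (d.W_le_normalizer ha)
    ((d.setting.W_le_centralizer (d.A_le_T hb)).trans le_normalizer)).trans
      inf_normalizer_le_normalizer_inf
  have hodd : Odd (Nat.card Q) := (d.odd_theta ha).of_dvd_nat (card_dvd_of_le inf_le_left)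
  rw [← Coprime.commutator_sup_centralizer hWQ
    (coprime_card_of_elab d.setting.elemAb hodd.not_two_dvd_nat)
    (Or.inl (isSolvable_of_elab d.setting.elemAb))]
  refine sup_le ((d.commutator_le_commutator_core hb hb1 inf_le_right hodd hWQ).trans le_sup_left)
    fun q hq => ?_
  refine mem_sup_right ⟨?_, hq.1.2⟩
  obtain ⟨r, hr, e, he, rfl⟩ := Coprime.exists_mul_of_mem_sup d.delta_le_normalizer
    (show q ∈ theta W a from hq.1.1)
  refine mul_mem (d.fixed_le ha ⟨hr, ?_⟩) he.1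
  have := (centralizer (W : Set G)).mul_mem hq.2
    ((centralizer (W : Set G)).inv_mem (SolvSig.core'_le 2 _ he.1))
  rwa [mul_inv_cancel_right] at this

theorem functor : IsSolvableSignalizerFunctor 2 A (theta W) :=
  ⟨⟨fun a ha _ => d.theta_le ha, fun a ha _ => (d.odd_theta ha).not_two_dvd_nat,
    fun a ha _ b hb x hx => (mem_normalizer_iff.1 (d.A_le_normalizer ha hb) x).1 hx,
    fun a ha _ b hb hb1 => d.balance ha hb hb1⟩,
    fun a ha _ => Cfsg.Agent.S0205.result (d.odd_theta ha)⟩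

theorem odd_closure : Odd (Nat.card (signalizerClosure A (theta W))) := by
  haveI : Fact (Nat.Prime 2) := ⟨Nat.prime_two⟩
  exact Nat.not_even_iff_odd.1 fun he =>
    (SolvSig.isSolvable_signalizerClosure d.elemAb d.eight d.functor).2 (even_iff_two_dvd.1 he)

theorem W_le_normalizer_closure :
    W ≤ normalizer (signalizerClosure A (theta W) : Set G) := fun w hw => by
  rw [mem_normalizer_iff_map_conj_eq, signalizerClosure, Subgroup.map_iSup]
  exact iSup_congr fun a => mem_normalizer_iff_map_conj_eq.1 (d.W_le_normalizer a.2.1 hw)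

/-- All conjugates of elements of `W` lie in `Ω W`. -/
theorem conj_mem_closure {g w₁ : G} (hw₁ : w₁ ∈ W) :
    g * w₁ * g⁻¹ ∈ signalizerClosure A (theta W) ⊔ W := by
  haveI : Fact (Nat.Prime 2) := ⟨Nat.prime_two⟩
  have h := d.setting
  set v := g * w₁ * g⁻¹ with hv
  have hvv : v * v = 1 := by
    rw [hv, show g * w₁ * g⁻¹ * (g * w₁ * g⁻¹) = g * (w₁ * w₁) * g⁻¹ by group, h.sq _ hw₁,
      mul_one, mul_inv_cancel]
  obtain ⟨e, P, hP, htP, hvP, hvc⟩ := exists_conj_sylow h.t_sq hvv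
  set v' := e * v * e⁻¹ with hv'
  obtain ⟨k, -, hk⟩ := h.isSylowIn_T.exists_cj_le le_top hP
  have htv : Commute t v' := by
    have h1 : k * v' * k⁻¹ ∈ W := by
      have e1 : k * v' * k⁻¹ = k * e * g * w₁ * (k * e * g)⁻¹ := by rw [hv', hv]; group
      rw [e1]; exact h.closed _ hw₁ _ (e1 ▸ hk (conj_mem_cj k hvP))
    have h2 := h.central _ h1 _ (hk (conj_mem_cj k htP))
    have := congrArg (fun y => k⁻¹ * y * k) h2.eq
    simpa [mul_assoc, Commute, SemiconjBy] using this
  have hv'2 : v' * v' = 1 := by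
    rw [hv', show e * v * e⁻¹ * (e * v * e⁻¹) = e * (v * v) * e⁻¹ by group, hvv, mul_one,
      mul_inv_cancel]
  have hvw : Commute v (t * v') := hvc (by
    calc t * v' * (t * v') = t * (v' * t) * v' := by group
      _ = t * (t * v') * v' := by rw [htv.eq]
      _ = (t * t) * (v' * v') := by group
      _ = 1 := by rw [h.t_sq, hv'2, one_mul])
  have htA : t ∈ A := d.A_eq ▸ mem_sup_right (mem_zpowers t)
  have ht1 : t ≠ 1 := fun e => h.t_not (e ▸ one_mem W)
  have e2 : v' = e * g * w₁ * (e * g)⁻¹ := by rw [hv', hv]; group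
  obtain ⟨r, hr, u', hu', hru⟩ := h.conj_mem (d.A_le_T htA) h.t_sq (d.split t htA ht1) hw₁
    (g := e * g) (by rw [← e2]; exact mem_centralizer_singleton_iff.2 htv.symm.eq)
  rw [← e2] at hru
  obtain ⟨u₀, hu₀, z, hz, rfl⟩ := d.gen u' hu'
  have hu₀t : u₀ * t ∈ A := A.mul_mem (d.A_eq ▸ mem_sup_left hu₀) htA
  have hu₀t1 : u₀ * t ≠ 1 := fun e => h.t_not (by
    rw [show t = u₀⁻¹ by rw [eq_inv_iff_mul_eq_one, (h.central u₀ (d.sub hu₀) t h.t_mem).eq, e]]
    exact W.inv_mem (d.sub hu₀))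
  have hrθ : r ∈ theta W t := mem_sup_left hr
  have hrt : r * t = t * r := mem_centralizer_singleton_iff.1 (d.theta_le htA hrθ)
  have hv1 : (r⁻¹ * g) * w₁ * (r⁻¹ * g)⁻¹ ∈ centralizer ({u₀ * t} : Set G) := by
    have e3 : (r⁻¹ * g) * w₁ * (r⁻¹ * g)⁻¹ = r⁻¹ * v * r := by rw [hv]; group
    rw [e3, mem_centralizer_singleton_iff]
    have h3 : t * v' = r * (u₀ * t * z) * r⁻¹ := by
      rw [hru, show r * (u₀ * t * z) * r⁻¹ = r * (u₀ * t) * z * r⁻¹ by group,
        ← (h.central u₀ (d.sub hu₀) t h.t_mem).eq, ← mul_assoc, ← mul_assoc, ← hrt]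
      group
    have h4 : Commute (r⁻¹ * v * r) (u₀ * t * z) := by
      have := congrArg (fun y => r⁻¹ * y * r) hvw.eq
      rw [h3] at this
      simpa [mul_assoc, Commute, SemiconjBy] using this
    have h5 : Commute (r⁻¹ * v * r) z := (mem_center_iff.1 hz _)
    have := h4.mul_right h5.inv_right
    rwa [mul_inv_cancel_right] at this
  have hsq : u₀ * t * (u₀ * t) = 1 := by rw [← pow_two]; exact d.elemAb.2 _ hu₀t
  obtain ⟨r', hr', u'', hu'', hru'⟩ := h.conj_mem (d.A_le_T hu₀t) hsq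
    (d.split _ hu₀t hu₀t1) hw₁ hv1
  have hle : ∀ a ∈ A, a ≠ 1 → theta W a ≤ signalizerClosure A (theta W) :=
    fun a ha ha1 => le_iSup_of_le ⟨a, ha, ha1⟩ le_rfl
  have hrr : r * r' ∈ signalizerClosure A (theta W) :=
    mul_mem (hle t htA ht1 hrθ) (hle _ hu₀t hu₀t1 (mem_sup_left hr'))
  have : v = (r * r') * u'' * (r * r')⁻¹ := by
    rw [show (r * r') * u'' * (r * r')⁻¹ = r * (r' * u'' * r'⁻¹) * r⁻¹ by group, ← hru', hv]
    group
  rw [this]
  exact mul_mem (mul_mem (mem_sup_left hrr) (mem_sup_right hu'')) (inv_mem (mem_sup_left hrr))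

theorem good (g : G) : ∃ o ∈ pPrimeCore 2 G, ∃ n ∈ normalizer (W : Set G), g = o * n := by
  set Ω := signalizerClosure A (theta W) with hΩ
  have hWN := d.W_le_normalizer_closure
  set K := normalClosure (W : Set G) with hK
  have hKle : K ≤ Ω ⊔ W := by
    refine (closure_le _).2 fun x hx => ?_
    obtain ⟨w, hw, hc⟩ := Group.mem_conjugatesOfSet_iff.1 hx
    obtain ⟨c, rfl⟩ := isConj_iff.1 hc
    exact d.conj_mem_closure hw
  have hWK : W ≤ K := le_normalClosure
  have hn : K ≤ normalizer ((K ⊓ Ω : Subgroup G) : Set G) :=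
    (le_inf le_normalizer (hKle.trans (sup_le le_normalizer hWN))).trans
      inf_normalizer_le_normalizer_inf
  have hsub : (K ⊓ Ω).IsSubnormal := IsSubnormal.step _ K inf_le_left
    (IsSubnormal.step K ⊤ le_top IsSubnormal.top inferInstance)
    ((normal_subgroupOf_iff_le_normalizer inf_le_left).2 hn)
  have hcore : K ⊓ Ω ≤ pPrimeCore 2 G := PLocal.le_pPrimeCore_of_isSubnormal hsub
    (PLocal.not_dvd_iff_coprime.2 fun hd => d.odd_closure.not_two_dvd_nat
      (hd.trans (card_dvd_of_le inf_le_right)))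
  set O := pPrimeCore 2 G with hO
  have hWO : ∀ x ∈ K, x ∈ O ⊔ W := fun x hx => by
    have h1 : x ∈ (Ω ⊔ W) ⊓ K := ⟨hKle hx, hx⟩
    rw [Coprime.sup_inf_eq_of_le hWN hWK, inf_comm] at h1
    exact sup_le_sup_right hcore W h1
  set V := W.map (MulAut.conj g).toMonoidHom with hV
  have hVW : V ≤ O ⊔ W := by
    rintro _ ⟨w, hw, rfl⟩
    exact hWO _ (normalClosure_normal.conj_mem w (hWK hw) g)
  have hcard : Nat.card V = Nat.card W := card_map_of_injective (MulAut.conj g).injective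
  have hcop : (Nat.card O).Coprime (Nat.card W) := by
    haveI : Fact (Nat.Prime 2) := ⟨Nat.prime_two⟩
    exact (coprime_card_of_elab d.setting.elemAb
      (PLocal.not_dvd_iff_coprime.1 (PLocal.coprime_card_pPrimeCore 2 G))).symm
  have hOn : O.Normal := inferInstance
  have heq : O ⊔ W = O ⊔ V := by
    refine (eq_of_le_of_card_ge (sup_le le_sup_left hVW) ?_).symm
    rw [Coprime.card_sup_eq le_normalizer_of_normal (Coprime.inf_eq_bot_of_coprime hcop),
      Coprime.card_sup_eq le_normalizer_of_normal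
        (Coprime.inf_eq_bot_of_coprime (hcard ▸ hcop)), hcard]
  obtain ⟨o, ho, hoW⟩ := Coprime.exists_conj_eq_of_sup_eq le_normalizer_of_normal
    le_normalizer_of_normal hcop hcard heq (Or.inr (isSolvable_of_elab d.setting.elemAb))
  refine ⟨o, ho, o⁻¹ * g, ConjFunctor.mem_normalizer_of_forall_conj_mem fun w hw => ?_, by group⟩
  have : g * w * g⁻¹ ∈ MulAut.conj o • W := hoW.symm ▸ mem_map_of_mem _ hw
  rw [Coprime.mem_conj_smul] at this
  rwa [show o⁻¹ * g * w * (o⁻¹ * g)⁻¹ = o⁻¹ * (g * w * g⁻¹) * o by group]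

end Datum

/-- A complement of the central part. -/
theorem exists_complement {W : Subgroup G} (hsq : ∀ w ∈ W, w * w = 1)
    (hc : ∀ a ∈ W, ∀ b ∈ W, a * b = b * a) :
    ∃ W' ≤ W, W' ⊓ center G = ⊥ ∧ ∀ w ∈ W, ∃ a ∈ W', ∃ z ∈ center G, w = a * z := by
  obtain ⟨W', hW'⟩ := (Set.toFinite {K : Subgroup G | K ≤ W ∧ K ⊓ center G = ⊥}).exists_maximal
    ⟨⊥, bot_le, bot_inf_eq _⟩
  obtain ⟨hle, hbot⟩ := hW'.1
  refine ⟨W', hle, hbot, fun w hw => ?_⟩
  by_contra hno
  have hwN : zpowers w ≤ normalizer (W' : Set G) := zpowers_le.2 (centralizer_le_normalizer _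
    (mem_centralizer_iff.2 fun x hx => hc x (hle hx) w hw))
  have hbig : W' ⊔ zpowers w ≤ W ∧ (W' ⊔ zpowers w) ⊓ center G = ⊥ := by
    refine ⟨sup_le hle (zpowers_le.2 hw), (Subgroup.eq_bot_iff_forall _).2 ?_⟩
    rintro x ⟨hx, hxc⟩
    obtain ⟨a, ha, s, hs, rfl⟩ := Coprime.exists_mul_of_mem_sup hwN hx
    rcases eq_one_or_eq_of_mem_zpowers (hsq w hw) hs with rfl | rfl
    · rw [mul_one] at hxc ⊢
      exact mem_bot.1 (hbot ▸ (⟨ha, hxc⟩ : a ∈ W' ⊓ center G))
    · exact absurd ⟨a⁻¹, W'.inv_mem ha, a * s, hxc, by group⟩ hno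
  refine hno ⟨w, hW'.2 hbig le_sup_left (mem_sup_right (mem_zpowers w)), 1, one_mem _,
    (mul_one w).symm⟩

omit [Finite G] in
theorem good_aux : ∀ (n : ℕ) (G : Type u) [Group G] [Finite G] (T W : Subgroup G) (t : G),
    Nat.card G = n → Setting T W t →
    ∀ g : G, ∃ o ∈ pPrimeCore 2 G, ∃ m ∈ normalizer (W : Set G), g = o * m := by
  intro n
  induction n using Nat.strong_induction_on with
  | _ n ih =>
  intro G _ _ T W t hn h g
  subst hn
  haveI : Fact (Nat.Prime 2) := ⟨Nat.prime_two⟩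
  by_cases htop : ∃ w ∈ W, w * t ∈ center G
  · obtain ⟨w, hw, hc⟩ := htop
    have hC : centralizer ({w * t} : Set G) = ⊤ := eq_top_iff.2 fun y _ =>
      mem_centralizer_singleton_iff.2 (mem_center_iff.1 hc y)
    obtain ⟨o, ho, m, hm, he⟩ := h.split w hw g (hC ▸ mem_top g)
    refine ⟨o, ?_, m, hm.2, he⟩
    rw [hC] at ho
    haveI : (core' 2 (⊤ : Subgroup G)).Normal :=
      normalizer_eq_top_iff.1 (top_le_iff.1 (le_normalizer_core' ⊤))
    exact PLocal.le_pPrimeCore (SolvSig.card_core'_coprime 2 _) ho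
  push Not at htop
  have hsplit : ∀ w ∈ W, w ∉ center G → CentSplit W w := by
    intro w hw hwc c hc
    set H := centralizer ({w} : Set G) with hH
    have hlt : Nat.card H < Nat.card G := lt_of_le_of_ne (card_le_card_group H) fun e =>
      hwc (mem_center_iff.2 fun y => mem_centralizer_singleton_iff.1
        ((eq_top_of_card_eq H e).symm ▸ mem_top y : y ∈ H))
    obtain ⟨o, ho, m, hm, he⟩ := ih _ hlt H _ _ _ rfl (h.restrict hw) ⟨c, hc⟩
    refine ⟨o, mem_map_of_mem _ ho, m, ⟨m.2, ConjFunctor.mem_normalizer_of_forall_conj_mem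
      fun x hx => ?_⟩, congrArg Subtype.val he⟩
    exact (mem_normalizer_iff.1 hm ⟨x, h.T_le_centralizer hw (h.le_T hx)⟩).1 hx
  obtain ⟨W', hsub, hbot, hgen⟩ := exists_complement h.sq
    fun a ha b hb => (h.central b hb a (h.le_T ha)).eq
  by_cases h4 : 4 ≤ Nat.card W'
  · refine Datum.good (T := T) (W := W) (W' := W') (A := W' ⊔ zpowers t) (t := t)
      ⟨h, hsub, hgen, h4, rfl, fun a ha ha1 => ?_⟩ g
    obtain ⟨w, hw, s, hs, rfl⟩ := Coprime.exists_mul_of_mem_sup ((zpowers_le.2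
      (mem_centralizer_iff.2 fun w hw => (h.central w (hsub hw) t h.t_mem).eq.symm)).trans
      (centralizer_le_normalizer _)) ha
    rcases eq_one_or_eq_of_mem_zpowers h.t_sq hs with rfl | rfl
    · rw [mul_one] at ha1 ⊢
      exact hsplit w (hsub hw) fun hc => ha1 (mem_bot.1 (hbot ▸ (⟨hw, hc⟩ : w ∈ W' ⊓ center G)))
    · exact h.split w (hsub hw)
  by_cases hW' : W' = ⊥
  · refine ⟨1, one_mem _, g, centralizer_le_normalizer _ (mem_centralizer_iff.2 fun w hw => ?_),
      (one_mul g).symm⟩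
    obtain ⟨a, ha, z, hz, rfl⟩ := hgen w hw
    rw [hW', mem_bot] at ha
    rw [ha, one_mul]
    exact (mem_center_iff.1 hz g).symm
  obtain ⟨u, hu, hu1⟩ := (bot_or_exists_ne_one W').resolve_left hW'
  have hzu : zpowers u = W' := by
    refine eq_of_le_of_card_ge (zpowers_le.2 hu) ?_
    obtain ⟨k, hk⟩ := (h.isPGroup_T.to_le (hsub.trans h.le_T)).exists_card_eq
    rw [Nat.card_zpowers, orderOf_eq_prime (p := 2) (by rw [pow_two, h.sq u (hsub hu)]) hu1]
    rcases k with _ | _ | k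
    · omega
    · omega
    · exfalso; exact h4 (by rw [hk, pow_add]; have := Nat.two_pow_pos k; omega)
  refine h.good_of_isolated (hsub hu) hu1 (fun w hw => ?_) g
  obtain ⟨a, ha, z, hz, rfl⟩ := hgen w hw
  rw [← hzu] at ha
  refine ⟨z, ?_, hz, ?_⟩
  · have := W.mul_mem (W.inv_mem (hsub (hzu ▸ ha : a ∈ W'))) hw
    rwa [inv_mul_cancel_left] at this
  · rcases eq_one_or_eq_of_mem_zpowers (h.sq u (hsub hu)) ha with rfl | rfl
    · exact Or.inl (one_mul z)
    · exact Or.inr rfl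

/-- `G = O(G) N_G(W)`. -/
theorem Setting.good {T W : Subgroup G} {t : G} (h : Setting T W t) (g : G) :
    ∃ o ∈ pPrimeCore 2 G, ∃ m ∈ normalizer (W : Set G), g = o * m :=
  good_aux _ G T W t rfl h g

end CfsgLib.WeakClosureCriterion
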